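import Mathlib

/-!
# A fixed-point-free automorphism of order dividing 3 of the rank three graph on 3510 points moves
some point to a neighbour
-/

set_option autoImplicit false

namespace Cfsg.Agent.Lib.Fischer3T4

open Matrix

variable {ι : Type*} [Fintype ι] [DecidableEq ι]

theorem isIntegral_trace_of_pow_four {M : Matrix ι ι ℂ} (hM : M ^ 4 = M) : IsIntegral ℤ M.trace := by
  rw [Matrix.trace_eq_sum_roots_charpoly]
  refine IsIntegral.multiset_sum fun r hr => ?_
  have hr' : r ∈ spectrum ℂ M := by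
    rw [Matrix.mem_spectrum_iff_isRoot_charpoly]
    exact (Polynomial.mem_roots'.1 hr).2
  have h0 := spectrum.subset_polynomial_aeval M (Polynomial.X ^ 4 - Polynomial.X) ⟨r, hr', rfl⟩
  have hne : Nonempty ι := by
    by_contra hne
    rw [not_nonempty_iff] at hne
    exact (Set.eq_empty_iff_forall_notMem.1 (spectrum.of_subsingleton M) r) hr'
  simp only [Polynomial.aeval_sub, Polynomial.aeval_X_pow, Polynomial.aeval_X, hM, sub_self,
    spectrum.zero_eq, Set.mem_singleton_iff, Polynomial.eval_sub, Polynomial.eval_pow, Polynomial.eval_X] at h0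
  refine ⟨Polynomial.X ^ 4 - Polynomial.X, ?_, ?_⟩
  · exact (Polynomial.monic_X_pow 4).sub_of_left (by simp)
  · simp [h0]

theorem sum_ite_card {α : Type*} [Fintype α] (p : α → Prop) [DecidablePred p] :
    ∑ i, (if p i then (1 : ℂ) else 0) = ({i | p i}.ncard : ℂ) := by
  rw [Finset.sum_boole, Set.ncard_eq_toFinset_card' {i | p i}]
  congr 2
  ext; simp

/-- The strongly regular graph with parameters `(3510, 693, 180, 126)`: a fixed-point-free symmetry `s`
with `s ^ 3 = 1` joins some point to its image. -/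
theorem exists_adj_image (R : ι → ι → Prop) [DecidableRel R] (hirr : ∀ i, ¬ R i i)
    (hsym : ∀ i j, R i j → R j i) (hn : Fintype.card ι = 3510)
    (hk : ∀ i, {j | R i j}.ncard = 693)
    (h1 : ∀ i j, R i j → {l | R i l ∧ R l j}.ncard = 180)
    (h2 : ∀ i j, i ≠ j → ¬ R i j → {l | R i l ∧ R l j}.ncard = 126)
    (s : Equiv.Perm ι) (hs : s ^ 3 = 1) (hfix : ∀ i, s i ≠ i) (hR : ∀ i j, R (s i) (s j) ↔ R i j) :
    ∃ i, R i (s i) := by
  by_contra! hno
  let A : Matrix ι ι ℂ := Matrix.of fun i j => if R i j then 1 else 0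
  let J : Matrix ι ι ℂ := Matrix.of fun _ _ => 1
  let P : Matrix ι ι ℂ := s.permMatrix ℂ
  have hA2 : A * A = (567 : ℂ) • (1 : Matrix ι ι ℂ) + (54 : ℂ) • A + (126 : ℂ) • J := by
    ext i j
    have e : (A * A) i j = ({l | R i l ∧ R l j}.ncard : ℂ) := by
      rw [Matrix.mul_apply, ← sum_ite_card]
      exact Finset.sum_congr rfl fun l _ => by simp only [A, Matrix.of_apply, ← ite_and, mul_ite, mul_one, mul_zero]; congr 1; rw [and_comm]
    rw [e]
    simp only [Matrix.add_apply, Matrix.smul_apply, Matrix.one_apply, smul_eq_mul, A, J, Matrix.of_apply]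
    by_cases hij : i = j
    · subst hij
      rw [show {l | R i l ∧ R l i} = {l | R i l} from Set.ext fun l => ⟨fun h => h.1, fun h => ⟨h, hsym _ _ h⟩⟩,
        hk i, if_pos rfl, if_neg (hirr i)]
      norm_num
    · by_cases hr : R i j
      · rw [h1 i j hr, if_neg hij, if_pos hr]; norm_num
      · rw [h2 i j hij hr, if_neg hij, if_neg hr]; norm_num
  have hcol : ∀ j, {i | R i j}.ncard = 693 := fun j => by
    rw [show {i | R i j} = {i | R j i} from Set.ext fun i => ⟨hsym _ _, hsym _ _⟩, hk]
  have hAJ : A * J = (693 : ℂ) • J := by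
    ext i j
    simp only [Matrix.mul_apply, A, J, Matrix.of_apply, Matrix.smul_apply, smul_eq_mul, mul_one]
    rw [sum_ite_card, hk]; norm_num
  have hJA : J * A = (693 : ℂ) • J := by
    ext i j
    simp only [Matrix.mul_apply, A, J, Matrix.of_apply, Matrix.smul_apply, smul_eq_mul, one_mul, mul_one]
    rw [sum_ite_card, hcol]; norm_num
  have hJJ : J * J = (3510 : ℂ) • J := by
    ext i j
    simp [Matrix.mul_apply, J, hn]
  have hP : ∀ (M : Matrix ι ι ℂ), (∀ i j, M (s i) (s j) = M i j) → P * M = M * P := by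
    intro M hM
    ext i j
    simp only [P, Equiv.Perm.permMatrix]
    rw [PEquiv.toMatrix_toPEquiv_mul, PEquiv.mul_toMatrix_toPEquiv]
    simp only [Matrix.submatrix_apply, id_eq]
    rw [← hM i (s.symm j), Equiv.apply_symm_apply]
  set E : Matrix ι ι ℂ := (1 / 72 : ℂ) • (A + (9 : ℂ) • 1 - (1 / 5 : ℂ) • J) with hE
  have hEE : E * E = E := by
    rw [hE]
    simp only [add_mul, mul_add, sub_mul, mul_sub, smul_mul_assoc, mul_smul_comm, one_mul, mul_one, smul_smul,
      smul_add, smul_sub, hA2, hAJ, hJA, hJJ]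
    module
  have hEP : P * E = E * P := by
    refine hP E fun i j => ?_
    simp [hE, A, J, Matrix.one_apply, hR]
  have hP3 : P ^ 3 = 1 := by
    have e : ∀ k : ℕ, (s ^ k).permMatrix ℂ = P ^ k := by
      intro k
      induction k with
      | zero => simp
      | succ k ih => rw [pow_succ, Matrix.permMatrix_mul, ih, ← pow_succ']
    rw [← e 3, hs, Matrix.permMatrix_one]
  have hM4 : (E * P) ^ 4 = E * P := by
    rw [(show Commute E P from hEP.symm).mul_pow, show P ^ 4 = P by rw [pow_succ, hP3, one_mul],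
      show E ^ 4 = E by simp [pow_succ, hEE]]
  have hint := isIntegral_trace_of_pow_four hM4
  have htr : (E * P).trace = -(39 / 4 : ℂ) := by
    have e : ∀ M : Matrix ι ι ℂ, (M * P).trace = ∑ i, M i (s.symm i) := fun M => by
      simp [Matrix.trace, P, PEquiv.mul_toMatrix_toPEquiv]
    have h0 : ∀ i, ¬ R i (s.symm i) := fun i h => hno (s.symm i) (by simpa using hsym _ _ h)
    have h1' : ∀ i, i ≠ s.symm i := fun i h => hfix i (by conv_lhs => rw [h, Equiv.apply_symm_apply])
    rw [e]
    simp [hE, A, J, h0, h1', hn]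
    norm_num
  rw [htr] at hint
  have h4 : IsIntegral ℤ ((-39 / 4 : ℚ)) := by
    rw [← isIntegral_algebraMap_iff (R := ℤ) (A := ℚ) (B := ℂ) (algebraMap ℚ ℂ).injective]
    convert hint using 1
    push_cast [eq_ratCast]
    ring
  obtain ⟨z, hz⟩ := IsIntegrallyClosed.isIntegral_iff.1 h4
  simp only [eq_intCast] at hz
  have : (4 : ℚ) * z = -39 := by rw [hz]; norm_num
  norm_cast at this
  omega

end Cfsg.Agent.Lib.Fischer3T4
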