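import Cfsg.Agent.Lib.Fischer3T4.Fixed
import Cfsg.Agent.Lib.Fischer3T4.Trace
import Cfsg.Agent.Lib.Fischer3T4.Tri
import Cfsg.Agent.Lib.Fi22Unique49.Main
import Cfsg.Agent.Lib.M22Struct66.Trans

/-!
# Type M(22): the subgroups of order 3 without a fixed member form one class

Such an element cycles a commuting triangle by the trace identity; the stabiliser of a triangle has
Sylow 3-subgroups of order 27 at most, and the certified one decides.
-/

set_option autoImplicit false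

namespace Cfsg.Agent.Lib.Fischer3T4

open Cfsg Cfsg.Agent.Lib.ThreeTransp Cfsg.Agent.Lib.M22Struct66

attribute [local instance] Classical.propDecidable

variable {G : Type*} [Group G] {D : Set G}

/-- Transport of the certificate. -/
def certMap {H : Type*} [Group H] {E : Set H} (e : G ≃* H) (he : e '' D = E) (T : Tri.Cert G D) :
    Tri.Cert H E where
  a := e T.a
  b := e T.b
  c := e T.c
  x := e T.x
  y := e T.y
  z := e T.z
  ha := he ▸ ⟨_, T.ha, rfl⟩
  hb := he ▸ ⟨_, T.hb, rfl⟩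
  hc := he ▸ ⟨_, T.hc, rfl⟩
  hab h := T.hab (e.injective h)
  hac h := T.hac (e.injective h)
  hbc h := T.hbc (e.injective h)
  cab := T.cab.map e
  cac := T.cac.map e
  cbc := T.cbc.map e
  x3 := by rw [← map_pow, T.x3, map_one]
  y3 := by rw [← map_pow, T.y3, map_one]
  z3 := by rw [← map_pow, T.z3, map_one]
  cxy := T.cxy.map e
  cxz := T.cxz.map e
  cyz := T.cyz.map e
  stab g hg f hf := by
    have key : ∀ g₀ f₀, (g₀ = T.x ∨ g₀ = T.y ∨ g₀ = T.z) → (f₀ = T.a ∨ f₀ = T.b ∨ f₀ = T.c) →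
        e g₀ * e f₀ * (e g₀)⁻¹ = e T.a ∨ e g₀ * e f₀ * (e g₀)⁻¹ = e T.b ∨ e g₀ * e f₀ * (e g₀)⁻¹ = e T.c := by
      intro g₀ f₀ hg₀ hf₀
      rw [← map_inv, ← map_mul, ← map_mul]
      rcases T.stab g₀ hg₀ f₀ hf₀ with h | h | h
      exacts [Or.inl (congrArg e h), Or.inr (Or.inl (congrArg e h)), Or.inr (Or.inr (congrArg e h))]
    rcases hg with rfl | rfl | rfl <;> rcases hf with rfl | rfl | rfl <;> exact key _ _ (by simp) (by simp)
  free f hf hc := by
    obtain ⟨f₀, hf₀, rfl⟩ := he ▸ hf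
    exact T.free f₀ hf₀ (by
      have := hc.map e.symm
      rwa [e.symm_apply_apply, e.symm_apply_apply] at this)
  ne_one i j k h h1 := T.ne_one i j k h (e.injective (by simpa using h1))
  sorted i j k h := by
    rcases T.sorted i j k h with ⟨f, hf, hc⟩ | ⟨g, hg⟩
    · exact Or.inl ⟨e f, he ▸ ⟨_, hf, rfl⟩, by simpa using hc.map e⟩
    · refine Or.inr ⟨e g, ?_⟩
      rcases hg with hg | hg
      · exact Or.inl (by simpa using congrArg e hg)
      · exact Or.inr (by simpa using congrArg e hg)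

theorem exists_tri [Finite G] (hD : IsThreeTranspositionGroup D) (hprim : IsPrimitiveUnderConj D)
    (h22 : IsOfTypeM22 G D) : Nonempty (Tri.Cert G D) := by
  obtain ⟨e, he⟩ := Fi22Unique49.exists_iso_fi22 hD hprim h22
  obtain ⟨T⟩ := Tri.exists_cert
  refine ⟨certMap e ?_ T⟩
  ext d
  constructor
  · rintro ⟨_, hf, rfl⟩
    obtain ⟨g, rfl⟩ := isConj_iff.1 hf
    rw [map_mul, map_mul, map_inv]
    exact hD.2.1 _ _ he
  · intro hd
    obtain ⟨g, hg⟩ := hprim.1 _ he d hd
    refine ⟨_, isConj_iff.2 ⟨e.symm g, rfl⟩, ?_⟩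
    rw [map_mul, map_mul, map_inv, e.apply_symm_apply]
    exact hg

variable [Finite G] {F : Type} [Field F] [Fintype F] (hD : Counted D F)

/-- Conjugation of a set of elements. -/
def triStab (s : Set G) : Subgroup G where
  carrier := {g | ∀ e, e ∈ s ↔ g * e * g⁻¹ ∈ s}
  one_mem' e := by simp
  mul_mem' {g h} hg hh e := by
    rw [hh e, hg (h * e * h⁻¹)]
    simp [mul_assoc]
  inv_mem' {g} hg e := by
    rw [hg (g⁻¹ * e * g⁻¹⁻¹)]
    simp [mul_assoc]

omit [Fintype F] in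
theorem card_eq_mul (K : Subgroup G) (e : G) (O : Set G) (hO : ∀ g ∈ K, g * e * g⁻¹ ∈ O)
    (htr : ∀ f ∈ O, ∃ g ∈ K, g * e * g⁻¹ = f) :
    Nat.card K = O.ncard * Nat.card ↥(K ⊓ Subgroup.centralizer ({e} : Set G)) := by
  classical
  let act : MulAction K G := MulAction.compHom G (ConjAct.toConjAct.toMonoidHom.comp K.subtype)
  have hsm : ∀ (g : K) (f : G), g • f = (g : G) * f * (g : G)⁻¹ := fun g f => ConjAct.smul_def _ _
  have horb : MulAction.orbit K e = O := by
    ext f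
    rw [MulAction.mem_orbit_iff]
    constructor
    · rintro ⟨g, rfl⟩; rw [hsm]; exact hO g g.2
    · intro hf
      obtain ⟨g, hg, rfl⟩ := htr f hf
      exact ⟨⟨g, hg⟩, hsm _ _⟩
  have hst : MulAction.stabilizer K e = (K ⊓ Subgroup.centralizer ({e} : Set G)).subgroupOf K := by
    ext g
    rw [MulAction.mem_stabilizer_iff, hsm, Subgroup.mem_subgroupOf, Subgroup.mem_inf,
      Subgroup.mem_centralizer_singleton_iff, mul_inv_eq_iff_eq_mul]
    exact ⟨fun h => ⟨g.2, h⟩, fun h => h.2⟩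
  rw [← Nat.card_congr (Subgroup.subgroupOfEquivOfLe (inf_le_left (b := Subgroup.centralizer {e}))).toEquiv,
    ← hst, ← Nat.card_coe_set_eq, ← horb, ← Nat.card_prod]
  exact Nat.card_congr (MulAction.orbitProdStabilizerEquivGroup K e).symm

include hD

theorem card_triangle {a b c : G} (ha : a ∈ D) (hb : b ∈ nb D a) (hc : c ∈ com2 D a b) :
    Nat.card ↥(Subgroup.centralizer ({a} : Set G) ⊓ Subgroup.centralizer ({b} : Set G) ⊓
      Subgroup.centralizer ({c} : Set G)) = 147456 := by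
  have hcd : ∀ {g d e : G}, Commute g d → e ∈ nb D d → g * e * g⁻¹ ∈ nb D d := fun {g d e} hg he => by
    have := conj_mem_nb hD.conj g he
    rwa [hg.eq, mul_inv_cancel_right] at this
  have h1 := card_eq_mul (Subgroup.centralizer ({a} : Set G)) b (nb D a)
    (fun g hg => hcd (Subgroup.mem_centralizer_singleton_iff.1 hg) hb)
    (fun f hf => by
      obtain ⟨g, hg, h⟩ := hD.transitive_nb ha hb hf
      exact ⟨g, Subgroup.mem_centralizer_singleton_iff.2 hg.eq, h⟩)
  have h2 := card_eq_mul (Subgroup.centralizer ({a} : Set G) ⊓ Subgroup.centralizer ({b} : Set G)) c (com2 D a b)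
    (fun g hg => ⟨hcd (Subgroup.mem_centralizer_singleton_iff.1 hg.1) hc.1,
      hcd (Subgroup.mem_centralizer_singleton_iff.1 hg.2) hc.2⟩)
    (fun f hf => by
      obtain ⟨g, hga, hgb, h⟩ := hD.transitive_com2 ha hb hc hf
      exact ⟨g, ⟨Subgroup.mem_centralizer_singleton_iff.2 hga.eq, Subgroup.mem_centralizer_singleton_iff.2 hgb.eq⟩, h⟩)
  rw [hD.card_centralizer ha, hD.toCharted.ncard_nb ha, h2, hD.toCharted.ncard_com2_commute ha hb] at h1
  omega

theorem card_triStab {a b c : G} (ha : a ∈ D) (hb : b ∈ nb D a) (hc : c ∈ com2 D a b) :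
    Nat.card (triStab ({a, b, c} : Set G)) ∣ 6 * 147456 := by
  set s : Set G := {a, b, c}
  let ρ : triStab s →* Equiv.Perm s :=
    { toFun := fun g =>
        { toFun := fun e => ⟨(g : G) * e * (g : G)⁻¹, (g.2 e).1 e.2⟩
          invFun := fun e => ⟨(g⁻¹ : triStab s).1 * e * (g⁻¹ : triStab s).1⁻¹, ((g⁻¹ : triStab s).2 e).1 e.2⟩
          left_inv := fun e => Subtype.ext (by simp [mul_assoc])
          right_inv := fun e => Subtype.ext (by simp [mul_assoc]) }
      map_one' := Equiv.ext fun e => Subtype.ext (by simp)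
      map_mul' := fun g h => Equiv.ext fun e => Subtype.ext (by simp [mul_assoc]) }
  have hker : Nat.card ρ.ker = 147456 := by
    rw [← card_triangle hD ha hb hc]
    refine Nat.card_congr ⟨fun g => ⟨((g : triStab s) : G), ?_⟩, fun g => ⟨⟨g, ?_⟩, ?_⟩, fun g => rfl, fun g => rfl⟩
    · have hfix : ∀ e ∈ s, ((g : triStab s) : G) * e = e * ((g : triStab s) : G) := fun e he =>
        mul_inv_eq_iff_eq_mul.1 (congrArg Subtype.val (Equiv.congr_fun (MonoidHom.mem_ker.1 g.2) ⟨e, he⟩))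
      simp only [Subgroup.mem_inf, Subgroup.mem_centralizer_singleton_iff]
      exact ⟨⟨hfix a (by simp [s]), hfix b (by simp [s])⟩, hfix c (by simp [s])⟩
    · intro e
      obtain ⟨⟨m1, m2⟩, m3⟩ := g.2
      have h1 : (g : G) * a = a * g := Subgroup.mem_centralizer_singleton_iff.1 m1
      have h2 : (g : G) * b = b * g := Subgroup.mem_centralizer_singleton_iff.1 m2
      have h3 : (g : G) * c = c * g := Subgroup.mem_centralizer_singleton_iff.1 m3
      have hfix : ∀ e ∈ s, (g : G) * e * (g : G)⁻¹ = e := by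
        intro e he
        simp only [s, Set.mem_insert_iff, Set.mem_singleton_iff] at he
        rcases he with rfl | rfl | rfl <;> exact mul_inv_eq_iff_eq_mul.2 (by assumption)
      refine ⟨fun he => by rwa [hfix e he], fun he => ?_⟩
      have : (g : G) * e * (g : G)⁻¹ = e := (MulAut.conj (g : G)).injective (hfix _ he)
      rwa [this] at he
    · obtain ⟨⟨m1, m2⟩, m3⟩ := g.2
      have h1 : (g : G) * a = a * g := Subgroup.mem_centralizer_singleton_iff.1 m1
      have h2 : (g : G) * b = b * g := Subgroup.mem_centralizer_singleton_iff.1 m2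
      have h3 : (g : G) * c = c * g := Subgroup.mem_centralizer_singleton_iff.1 m3
      rw [MonoidHom.mem_ker]
      refine Equiv.ext fun e => Subtype.ext ?_
      show (g : G) * (e : G) * (g : G)⁻¹ = e
      have he := e.2
      simp only [s, Set.mem_insert_iff, Set.mem_singleton_iff] at he
      rcases he with he | he | he <;> rw [he] <;> exact mul_inv_eq_iff_eq_mul.2 (by assumption)
  have hr : Nat.card ρ.range ∣ 6 := by
    refine dvd_trans (Subgroup.card_subgroup_dvd_card _) ?_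
    rw [Nat.card_perm, Nat.card_coe_set_eq]
    have : s.ncard ≤ 3 := by
      refine (Set.ncard_insert_le _ _).trans (Nat.add_le_add_right ((Set.ncard_insert_le _ _).trans
        (Nat.add_le_add_right (Set.ncard_singleton _).le 1)) 1)
    exact (Nat.factorial_dvd_factorial this).trans (by decide)
  rw [← Subgroup.card_mul_index ρ.ker, hker, Subgroup.index_ker, mul_comm]
  exact Nat.mul_dvd_mul_right hr _

omit hD [Fintype F] in
theorem combo_mul (T : Tri.Cert G D) (i j k i' j' k' : ℕ) :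
    T.x ^ i * T.y ^ j * T.z ^ k * (T.x ^ i' * T.y ^ j' * T.z ^ k') =
      T.x ^ (i + i') * T.y ^ (j + j') * T.z ^ (k + k') := by
  calc _ = T.x ^ i * T.y ^ j * (T.z ^ k * T.x ^ i') * T.y ^ j' * T.z ^ k' := by group
    _ = T.x ^ i * (T.y ^ j * T.x ^ i') * (T.z ^ k * T.y ^ j') * T.z ^ k' := by
      rw [(T.cxz.symm.pow_pow k i').eq]; group
    _ = _ := by
      rw [(T.cxy.symm.pow_pow j i').eq, (T.cyz.symm.pow_pow k j').eq, pow_add, pow_add, pow_add]; group

omit hD [Fintype F] in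
theorem combo_cube (T : Tri.Cert G D) (i j k : ℕ) :
    T.x ^ i * T.y ^ j * T.z ^ k = T.x ^ (i % 3) * T.y ^ (j % 3) * T.z ^ (k % 3) := by
  conv_lhs => rw [← Nat.mod_add_div i 3, ← Nat.mod_add_div j 3, ← Nat.mod_add_div k 3, pow_add, pow_add, pow_add,
    pow_mul, pow_mul, pow_mul, T.x3, T.y3, T.z3, one_pow, one_pow, one_pow, mul_one, mul_one, mul_one]

theorem exists_cycled {x : G} (hx : x ^ 3 = 1) (hfree : ∀ d ∈ D, ¬ Commute x d) :
    ∃ a ∈ D, x * a * x⁻¹ ∈ nb D a := by
  have : Fintype G := Fintype.ofFinite G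
  let R : D → D → Prop := fun i j => i ≠ j ∧ Commute (i : G) (j : G)
  let s : Equiv.Perm D :=
    { toFun := fun i => ⟨x * i * x⁻¹, hD.conj x i i.2⟩
      invFun := fun i => ⟨x⁻¹ * i * x⁻¹⁻¹, hD.conj x⁻¹ i i.2⟩
      left_inv := fun i => Subtype.ext (by simp [mul_assoc])
      right_inv := fun i => Subtype.ext (by simp [mul_assoc]) }
  have hnc : ∀ (i : D) (P : G → Prop), {j : D | P j}.ncard = {e | e ∈ D ∧ P e}.ncard := fun i P => by
    rw [← Set.ncard_image_of_injective _ Subtype.val_injective]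
    congr 1
    ext e
    simp [and_comm]
  obtain ⟨i, hi⟩ := exists_adj_image R (fun i h => h.1 rfl) (fun i j h => ⟨h.1.symm, h.2.symm⟩)
    (by rw [← Nat.card_eq_fintype_card, Nat.card_coe_set_eq, hD.ncard_D])
    (fun i => by
      rw [← hD.toCharted.ncard_nb i.2,
        show {j : D | R i j} = {j : D | (fun e => (i : G) ≠ e ∧ Commute (i : G) e) j} from Set.ext fun j => by
          simp [R, Subtype.coe_injective.ne_iff], hnc i (fun e => (i : G) ≠ e ∧ Commute (i : G) e)]
      congr 1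
      ext e
      exact ⟨fun h => ⟨h.1, h.2.1.symm, h.2.2⟩, fun h => ⟨h.1, h.2.1.symm, h.2.2⟩⟩)
    (fun i j hij => by
      rw [← hD.toCharted.ncard_com2_commute i.2 (e := (j : G)) ⟨j.2, fun e => hij.1 (Subtype.ext e.symm), hij.2⟩,
        show {l : D | R i l ∧ R l j} =
          {l : D | (fun e => ((i : G) ≠ e ∧ Commute (i : G) e) ∧ (e ≠ j ∧ Commute e (j : G))) l} from
          Set.ext fun l => by simp [R, Subtype.coe_injective.ne_iff],
        hnc i (fun e => ((i : G) ≠ e ∧ Commute (i : G) e) ∧ (e ≠ j ∧ Commute e (j : G)))]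
      congr 1
      ext e
      exact ⟨fun h => ⟨⟨h.1, h.2.1.1.symm, h.2.1.2⟩, h.1, h.2.2.1, h.2.2.2.symm⟩,
        fun h => ⟨h.1.1, ⟨h.1.2.1.symm, h.1.2.2⟩, h.2.2.1, h.2.2.2.symm⟩⟩)
    (fun i j hne hij => by
      rw [← hD.com126 i i.2 j j.2 (fun h => hij ⟨hne, h⟩),
        show {l : D | R i l ∧ R l j} =
          {l : D | (fun e => ((i : G) ≠ e ∧ Commute (i : G) e) ∧ (e ≠ j ∧ Commute e (j : G))) l} from
          Set.ext fun l => by simp [R, Subtype.coe_injective.ne_iff],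
        hnc i (fun e => ((i : G) ≠ e ∧ Commute (i : G) e) ∧ (e ≠ j ∧ Commute e (j : G)))]
      congr 1
      ext e
      exact ⟨fun h => ⟨⟨h.1, h.2.1.1.symm, h.2.1.2⟩, h.1, h.2.2.1, h.2.2.2.symm⟩,
        fun h => ⟨h.1.1, ⟨h.1.2.1.symm, h.1.2.2⟩, h.2.2.1, h.2.2.2.symm⟩⟩)
    s (Equiv.ext fun i => Subtype.ext (by
      show x * (x * (x * (i : G) * x⁻¹) * x⁻¹) * x⁻¹ = i
      calc _ = x ^ 3 * (i : G) * (x ^ 3)⁻¹ := by
            simp only [pow_succ, pow_zero, one_mul, mul_inv_rev, mul_assoc]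
        _ = i := by rw [hx]; simp))
    (fun i h => hfree i i.2 (mul_inv_eq_iff_eq_mul.1 (congrArg Subtype.val h)))
    (fun i j => by
      simp only [R, ne_eq, EmbeddingLike.apply_eq_iff_eq]
      exact and_congr_right fun _ => commute_conj_iff x)
  exact ⟨i, i.2, hD.conj x i i.2, fun h => hi.1 (Subtype.ext h.symm), hi.2⟩

/-- A fixed-point-free element of order 3 is conjugate to the certified one or its inverse. -/
theorem free_conj (T : Tri.Cert G D) {x : G} (hx : orderOf x = 3) (hfree : ∀ d ∈ D, ¬ Commute x d) :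
    ∃ g : G, g * x * g⁻¹ = T.x ∨ g * x * g⁻¹ = T.x ^ 2 := by
  have hx3 : x ^ 3 = 1 := hx ▸ pow_orderOf_eq_one x
  obtain ⟨a, ha, hb⟩ := exists_cycled hD hx3 hfree
  set b := x * a * x⁻¹ with hbdef
  set c := x * b * x⁻¹ with hcdef
  have hca : x * c * x⁻¹ = a := by
    calc _ = x ^ 3 * a * (x ^ 3)⁻¹ := by rw [hcdef, hbdef]; simp only [pow_succ, pow_zero, one_mul, mul_inv_rev, mul_assoc]
      _ = a := by rw [hx3]; simp
  have hcnb : c ∈ nb D b := conj_mem_nb hD.conj x hb
  have hanb : a ∈ nb D c := by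
    have := conj_mem_nb hD.conj x hcnb
    rwa [hca, ← hcdef] at this
  have hc : c ∈ com2 D a b := ⟨hD.toCharted.nb_symm hcnb.1 hanb, hcnb⟩
  -- carry the triangle onto the certified one
  obtain ⟨g₁, hg₁⟩ := hD.prim.1 a ha T.a T.ha
  have hb₁ : g₁ * b * g₁⁻¹ ∈ nb D T.a := hg₁ ▸ conj_mem_nb hD.conj g₁ hb
  have hTb : T.b ∈ nb D T.a := ⟨T.hb, T.hab.symm, T.cab⟩
  obtain ⟨g₂, hg₂a, hg₂⟩ := hD.transitive_nb T.ha hb₁ hTb
  set k := g₂ * g₁ with hk
  have hka : k * a * k⁻¹ = T.a := by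
    calc _ = g₂ * (g₁ * a * g₁⁻¹) * g₂⁻¹ := by rw [hk]; group
      _ = _ := by rw [hg₁, hg₂a.eq, mul_inv_cancel_right]
  have hkb : k * b * k⁻¹ = T.b := by
    calc _ = g₂ * (g₁ * b * g₁⁻¹) * g₂⁻¹ := by rw [hk]; group
      _ = _ := hg₂
  have hkc : k * c * k⁻¹ ∈ com2 D T.a T.b :=
    ⟨hka ▸ conj_mem_nb hD.conj k hc.1, hkb ▸ conj_mem_nb hD.conj k hc.2⟩
  have hTc : T.c ∈ com2 D T.a T.b := ⟨⟨T.hc, T.hac.symm, T.cac⟩, T.hc, T.hbc.symm, T.cbc⟩
  obtain ⟨g₃, hg₃a, hg₃b, hg₃⟩ := hD.transitive_com2 T.ha hTb hkc hTc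
  set g := g₃ * k with hg
  have hga : g * a * g⁻¹ = T.a := by
    calc _ = g₃ * (k * a * k⁻¹) * g₃⁻¹ := by rw [hg]; group
      _ = _ := by rw [hka, hg₃a.eq, mul_inv_cancel_right]
  have hgb : g * b * g⁻¹ = T.b := by
    calc _ = g₃ * (k * b * k⁻¹) * g₃⁻¹ := by rw [hg]; group
      _ = _ := by rw [hkb, hg₃b.eq, mul_inv_cancel_right]
  have hgc : g * c * g⁻¹ = T.c := by
    calc _ = g₃ * (k * c * k⁻¹) * g₃⁻¹ := by rw [hg]; group
      _ = _ := hg₃
  set x' := g * x * g⁻¹ with hx'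
  set s : Set G := {T.a, T.b, T.c}
  set H := triStab s
  have hstab : ∀ t : G, (∀ e ∈ s, t * e * t⁻¹ ∈ s) → t ∈ H := by
    intro t ht e
    refine ⟨ht e, fun he => ?_⟩
    have hfin : s.Finite := Set.toFinite s
    have himg : (fun e => t * e * t⁻¹) '' s = s :=
      (hfin.image _).eq_of_subset_of_encard_le (by rintro _ ⟨e, he, rfl⟩; exact ht e he)
        (by rw [Function.Injective.encard_image (fun p q h => by simpa using h)])
    rw [← himg] at he
    obtain ⟨e', he', h⟩ := he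
    simp only [mul_left_inj, mul_right_inj] at h
    exact h ▸ he'
  have hx'H : x' ∈ H := by
    refine hstab _ fun e he => ?_
    simp only [s, Set.mem_insert_iff, Set.mem_singleton_iff] at he ⊢
    rcases he with rfl | rfl | rfl
    · exact Or.inr (Or.inl (by rw [← hga, ← hgb, hbdef, hx']; group))
    · exact Or.inr (Or.inr (by rw [← hgb, ← hgc, hcdef, hx']; group))
    · refine Or.inl ?_
      calc x' * T.c * x'⁻¹ = g * (x * c * x⁻¹) * g⁻¹ := by rw [← hgc, hx']; group
        _ = T.a := by rw [hca, hga]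
  have hTH : ∀ t, (t = T.x ∨ t = T.y ∨ t = T.z) → t ∈ H := fun t ht => hstab t fun e he => by
    simp only [s, Set.mem_insert_iff, Set.mem_singleton_iff] at he ⊢
    exact T.stab t ht e he
  let Q : Subgroup G :=
    { carrier := {q | ∃ i j k : ℕ, q = T.x ^ i * T.y ^ j * T.z ^ k}
      one_mem' := ⟨0, 0, 0, by simp⟩
      mul_mem' := by
        rintro _ _ ⟨i, j, k, rfl⟩ ⟨i', j', k', rfl⟩
        exact ⟨_, _, _, combo_mul T i j k i' j' k'⟩
      inv_mem' := by
        rintro _ ⟨i, j, k, rfl⟩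
        refine ⟨2 * i, 2 * j, 2 * k, inv_eq_of_mul_eq_one_right ?_⟩
        rw [combo_mul, combo_cube, show (i + 2 * i) % 3 = 0 by omega, show (j + 2 * j) % 3 = 0 by omega,
          show (k + 2 * k) % 3 = 0 by omega]
        simp }
  have hQH : Q ≤ H := by
    rintro _ ⟨i, j, k, rfl⟩
    exact mul_mem (mul_mem (pow_mem (hTH _ (by simp)) i) (pow_mem (hTH _ (by simp)) j)) (pow_mem (hTH _ (by simp)) k)
  have hQcard : Nat.card Q = 27 := by
    let f : Fin 3 × Fin 3 × Fin 3 → Q := fun p => ⟨_, p.1.val, p.2.1.val, p.2.2.val, rfl⟩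
    have hf : Function.Bijective f := by
      constructor
      · rintro ⟨i, j, k⟩ ⟨i', j', k'⟩ h
        have h' : T.x ^ i.val * T.y ^ j.val * T.z ^ k.val = T.x ^ i'.val * T.y ^ j'.val * T.z ^ k'.val :=
          congrArg Subtype.val h
        by_contra hne
        refine T.ne_one (i - i') (j - j') (k - k') ?_ ?_
        · simp only [sub_eq_zero]
          rintro ⟨rfl, rfl, rfl⟩
          exact hne rfl
        · have e1 := congrArg (fun q => q * (T.x ^ (3 - i'.val) * T.y ^ (3 - j'.val) * T.z ^ (3 - k'.val))) h'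
          simp only [combo_mul] at e1
          rw [combo_cube, combo_cube T (i'.val + _)] at e1
          rw [show (i'.val + (3 - i'.val)) % 3 = 0 by omega, show (j'.val + (3 - j'.val)) % 3 = 0 by omega,
            show (k'.val + (3 - k'.val)) % 3 = 0 by omega] at e1
          simp only [pow_zero, mul_one] at e1
          rw [show (i - i').val = (i.val + (3 - i'.val)) % 3 by rw [Fin.val_sub]; omega,
            show (j - j').val = (j.val + (3 - j'.val)) % 3 by rw [Fin.val_sub]; omega,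
            show (k - k').val = (k.val + (3 - k'.val)) % 3 by rw [Fin.val_sub]; omega, e1]
      · rintro ⟨_, i, j, k, rfl⟩
        exact ⟨(⟨i % 3, Nat.mod_lt _ (by norm_num)⟩, ⟨j % 3, Nat.mod_lt _ (by norm_num)⟩,
          ⟨k % 3, Nat.mod_lt _ (by norm_num)⟩), Subtype.ext (combo_cube T i j k).symm⟩
    rw [← Nat.card_eq_of_bijective f hf]
    simp
  have hp : Fact (Nat.Prime 3) := ⟨Nat.prime_three⟩
  have hHdvd : Nat.card H ∣ 6 * 147456 :=
    card_triStab hD T.ha hTb hTc
  have hfac : (Nat.card H).factorization 3 = 3 := by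
    have h27 : 27 ∣ Nat.card H := hQcard ▸ Subgroup.card_dvd_of_le hQH
    apply le_antisymm
    · by_contra hcon
      push Not at hcon
      have h81 : 3 ^ 4 ∣ 6 * 147456 := ((pow_dvd_pow 3 hcon).trans (Nat.ordProj_dvd _ _)).trans hHdvd
      norm_num at h81
    · exact (Nat.Prime.pow_dvd_iff_le_factorization Nat.prime_three Nat.card_pos.ne').1 (by simpa using h27)
  have hQs : Nat.card (Q.subgroupOf H) = 3 ^ (Nat.card H).factorization 3 := by
    rw [hfac, Nat.card_congr (Subgroup.subgroupOfEquivOfLe hQH).toEquiv, hQcard]; norm_num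
  let S : Sylow 3 H := Sylow.ofCard (Q.subgroupOf H) hQs
  have ho' : orderOf (⟨x', hx'H⟩ : H) = 3 := by
    rw [← Subgroup.orderOf_coe]
    exact hx ▸ (MulAut.conj g).orderOf_eq x
  have hpg : IsPGroup 3 (Subgroup.zpowers (⟨x', hx'H⟩ : H)) :=
    IsPGroup.of_card (n := 1) (by rw [Nat.card_zpowers, ho', pow_one])
  obtain ⟨P, hP⟩ := hpg.exists_le_sylow
  obtain ⟨h, hh⟩ := MulAction.exists_smul_eq H P S
  have hmem : h * ⟨x', hx'H⟩ * h⁻¹ ∈ (S : Subgroup H) := by
    rw [← hh, Sylow.coe_subgroup_smul]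
    exact Subgroup.smul_mem_pointwise_smul _ (MulAut.conj h) _ (hP (Subgroup.mem_zpowers _))
  have hmemQ : (h : G) * x' * (h : G)⁻¹ ∈ Q := hmem
  obtain ⟨i, j, l, hq⟩ := hmemQ
  rw [combo_cube] at hq
  let i' : Fin 3 := ⟨i % 3, Nat.mod_lt _ (by norm_num)⟩
  let j' : Fin 3 := ⟨j % 3, Nat.mod_lt _ (by norm_num)⟩
  let l' : Fin 3 := ⟨l % 3, Nat.mod_lt _ (by norm_num)⟩
  have hnz : ¬ (i' = 0 ∧ j' = 0 ∧ l' = 0) := by
    rintro ⟨e1, e2, e3⟩
    simp only [i', j', l', Fin.ext_iff, Fin.val_zero] at e1 e2 e3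
    rw [e1, e2, e3, pow_zero, pow_zero, pow_zero, mul_one, mul_one, conj_eq_one_iff, hx', conj_eq_one_iff] at hq
    rw [hq, orderOf_one] at hx
    omega
  rcases T.sorted i' j' l' hnz with ⟨e, he, hce⟩ | ⟨g', hg'⟩
  · exfalso
    have hce' : Commute ((h : G) * x' * (h : G)⁻¹) e := by rw [hq]; exact hce
    refine hfree _ (hD.conj ((h : G) * g)⁻¹ e he) ?_
    rw [← commute_conj_iff ((h : G) * g)]
    convert hce' using 1
    · rw [hx']; group
    · group
  · refine ⟨g' * (h : G) * g, ?_⟩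
    have e : g' * (h : G) * g * x * (g' * (h : G) * g)⁻¹ = g' * ((h : G) * x' * (h : G)⁻¹) * g'⁻¹ := by
      rw [hx']; group
    rw [e, hq]
    exact hg'

end Cfsg.Agent.Lib.Fischer3T4
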